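import Groth.Agent.FunFld.Extra

/-! Vanishing dimensions and weights of linear series. -/

namespace Groth.Agent.FunFld

open _root_.FunFld WithZero Finset

variable {k K : Type*} [Field k] [Field K] [Algebra k K]

/-- `dim V(-mP)`. -/
noncomputable def av (D : Divisor k K) (V : Submodule k K) (P : Place k K) (m : ℤ) : ℕ :=
  Module.finrank k ↥(V ⊓ L (D - Finsupp.single P m))

/-- `∑_{n=1}^{d} dim V(-nP)`. -/
noncomputable def wsum (D : Divisor k K) (V : Submodule k K) (P : Place k K) (d : ℕ) : ℕ :=
  ∑ n ∈ range d, av D V P ((n : ℤ) + 1)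

theorem sum_tri (r : ℕ) : ∑ n ∈ range r, (r - n) = r * (r + 1) / 2 := by
  have h : ∑ n ∈ range r, (r - n) = ∑ n ∈ range (r + 1), n := by
    rw [← Finset.sum_range_reflect (fun n => n) (r + 1), Finset.sum_range_succ]
    simp
  rw [h, Finset.sum_range_id, Nat.add_sub_cancel, mul_comm]

theorem two_tri (r : ℕ) : 2 * (r * (r + 1) / 2) = r * (r + 1) :=
  Nat.two_mul_div_two_of_even (Nat.even_mul_succ_self r)

variable (hK : IsFunctionField k K) {D : Divisor k K} {V : Submodule k K} (hV : V ≤ L D)
include hK hV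

theorem finite_of_le : FiniteDimensional k V :=
  haveI := L_finite hK D
  Submodule.finiteDimensional_of_le hV

theorem av_mono (P : Place k K) {m m' : ℤ} (h : m ≤ m') : av D V P m' ≤ av D V P m := by
  haveI := finite_of_le hK hV
  exact Submodule.finrank_mono (inf_le_inf_left _ (L_mono (sub_le_sub_left (Finsupp.single_mono h) D)))

theorem av_zero (P : Place k K) : av D V P 0 = Module.finrank k V := by
  rw [av, Finsupp.single_zero, sub_zero, inf_eq_left.2 hV]

theorem av_le (P : Place k K) {m : ℤ} (hm : 0 ≤ m) : av D V P m ≤ Module.finrank k V :=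
  (av_mono hK hV P hm).trans (av_zero hK hV P).le

variable [IsAlgClosed k] {d r : ℕ} (hD : D.deg = d) (hr : Module.finrank k V = r + 1)

theorem av_step (P : Place k K) (m : ℤ) : av D V P m ≤ av D V P (m + 1) + 1 := by
  haveI := finite_of_le hK hV
  set E := D - Finsupp.single P (m + 1) with hE
  have hE' : D - Finsupp.single P m = E + Finsupp.single P 1 := by
    rw [hE, Finsupp.single_add]; abel
  have hle : E ≤ E + Finsupp.single P 1 := le_add_of_nonneg_right (Finsupp.single_nonneg.2 zero_le_one)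
  haveI := L_finite hK (E + Finsupp.single P 1)
  haveI := L_finite hK E
  have h1 := (ell_add_single_le hK E P).2
  rw [deg_eq_one hK] at h1
  have h2 := Submodule.finrank_sup_add_finrank_inf_eq (V ⊓ L (E + Finsupp.single P 1)) (L E)
  have h3 : Module.finrank k ↥((V ⊓ L (E + Finsupp.single P 1)) ⊔ L E) ≤ ell (E + Finsupp.single P 1) :=
    Submodule.finrank_mono (sup_le inf_le_right (L_mono hle))
  have h4 : V ⊓ L (E + Finsupp.single P 1) ⊓ L E = V ⊓ L E := by
    rw [inf_assoc, inf_eq_right.2 (L_mono hle)]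
  rw [h4] at h2
  simp only [ell] at h1 h3
  rw [av, av, hE', ← hE]
  omega

include hr in
theorem av_ge (P : Place k K) : ∀ n : ℕ, r + 1 ≤ av D V P (n : ℤ) + n := by
  intro n
  induction n with
  | zero => simp [av_zero hK hV, hr]
  | succ n ih =>
    have := av_step hK hV P n
    push_cast; omega

include hD in
theorem av_eq_zero (P : Place k K) {m : ℤ} (hm : (d : ℤ) < m) : av D V P m = 0 := by
  have : L (D - Finsupp.single P m) = ⊥ :=
    ell_eq_zero_of_deg_neg hK (by rw [deg_sub, deg_single, deg_eq_one hK, hD]; push_cast; omega)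
  rw [av, this, inf_bot_eq, finrank_bot]

include hD hr in
theorem r_le_d [Nonempty (Place k K)] : r ≤ d := by
  obtain ⟨P⟩ := ‹Nonempty (Place k K)›
  have h1 := av_ge hK hV hr P (d + 1)
  rw [av_eq_zero hK hV hD P (by push_cast; omega)] at h1
  omega

include hD hr in
theorem tri_le_wsum (P : Place k K) : r * (r + 1) / 2 ≤ wsum D V P d := by
  haveI : Nonempty (Place k K) := ⟨P⟩
  rw [← sum_tri]
  refine (Finset.sum_le_sum fun n _ => ?_).trans
    (Finset.sum_le_sum_of_subset (Finset.range_mono (r_le_d hK hV hD hr)))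
  have := av_ge hK hV hr P (n + 1)
  push_cast at this
  omega

include hD hr in
theorem cusp_le_wsum (P : Place k K) (hc : r ≤ av D V P 2) :
    r + r * (r + 1) / 2 ≤ wsum D V P d := by
  rcases Nat.eq_zero_or_pos r with rfl | hr0
  · simp
  have hge : ∀ n : ℕ, r + 2 ≤ av D V P ((n : ℤ) + 2) + (n + 2) := by
    intro n
    induction n with
    | zero => simp; omega
    | succ n ih =>
      have := av_step hK hV P ((n : ℤ) + 2)
      rw [show ((n : ℤ) + 2 + 1) = ((n + 1 : ℕ) : ℤ) + 2 by push_cast; ring] at this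
      omega
  have hrd : r + 1 ≤ d := by
    by_contra hlt
    have h := hge (r - 1)
    rw [av_eq_zero hK hV hD P (by omega)] at h
    omega
  refine le_trans ?_ (Finset.sum_le_sum_of_subset (Finset.range_mono hrd))
  rw [Finset.sum_range_succ', ← sum_tri, add_comm]
  refine add_le_add (Finset.sum_le_sum fun n _ => ?_) ?_
  · have := hge n
    rw [show (((n + 1 : ℕ) : ℤ) + 1) = (n : ℤ) + 2 by push_cast; ring]
    omega
  · exact hc.trans (av_mono hK hV P (by norm_num))

theorem av_add_le (P Q : Place k K) (hPQ : P ≠ Q) (n m : ℤ) :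
    av D V P n + av D V Q m ≤ Module.finrank k V +
      Module.finrank k ↥(V ⊓ L (D - Finsupp.single P n - Finsupp.single Q m)) := by
  classical
  haveI := finite_of_le hK hV
  have h := Submodule.finrank_sup_add_finrank_inf_eq (V ⊓ L (D - Finsupp.single P n))
    (V ⊓ L (D - Finsupp.single Q m))
  rw [av, av, ← h]
  refine add_le_add (Submodule.finrank_mono (sup_le inf_le_left inf_le_left)) (Submodule.finrank_mono ?_)
  rintro x ⟨⟨hxV, hxP⟩, -, hxQ⟩
  refine ⟨hxV, fun R => ?_⟩
  rcases eq_or_ne R Q with rfl | hR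
  · refine (hxQ R).trans (le_of_eq ?_)
    simp [Finsupp.single_eq_of_ne hPQ.symm]
  · refine (hxP R).trans (le_of_eq ?_)
    simp [Finsupp.single_eq_of_ne hR]

include hD hr in
theorem av_add_le_of_lt (P Q : Place k K) (hPQ : P ≠ Q) {n m : ℤ} (h : (d : ℤ) < n + m) :
    av D V P n + av D V Q m ≤ r + 1 := by
  have := av_add_le hK hV P Q hPQ n m
  rw [ell_eq_zero_of_deg_neg hK (D := D - Finsupp.single P n - Finsupp.single Q m) (by
    rw [deg_sub, deg_sub, deg_single, deg_single, deg_eq_one hK, deg_eq_one hK, hD]; push_cast; omega),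
    inf_bot_eq, finrank_bot, hr] at this
  exact this

include hD hr in
theorem wsum_add_le (P Q : Place k K) (hPQ : P ≠ Q) :
    wsum D V P d + wsum D V Q d ≤ (r + 1) * d := by
  rw [wsum, wsum, ← Finset.sum_range_reflect (fun n : ℕ => av D V Q ((n : ℤ) + 1)) d, ← Finset.sum_add_distrib]
  refine (Finset.sum_le_card_nsmul _ _ (r + 1) fun n hn => ?_).trans (by simp [mul_comm])
  have := Finset.mem_range.1 hn
  exact av_add_le_of_lt hK hV hD hr P Q hPQ (by omega)

end Groth.Agent.FunFld

namespace Groth.Agent.FunFld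

open _root_.FunFld Finset

variable {k K K' : Type*} [Field k] [Field K] [Field K'] [Algebra k K] [Algebra k K']
  {D : Divisor k K} {V : Submodule k K} {D' : Divisor k K'} {V' : Submodule k K'} {d r : ℕ}
  {P : Place k K} {Q : Place k K'}

/-- Compatible aspects have complementary weights. -/
theorem wsum_compat (h : ∀ m : ℕ, m ≤ d + 1 → av D V P (m : ℤ) + av D' V' Q ((d : ℤ) + 1 - m) = r + 1) :
    wsum D V P d + wsum D' V' Q d = (r + 1) * d := by
  rw [wsum, wsum, ← Finset.sum_range_reflect (fun n : ℕ => av D' V' Q ((n : ℤ) + 1)) d, ← Finset.sum_add_distrib]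
  refine (Finset.sum_eq_card_nsmul (b := r + 1) fun n hn => ?_).trans (by simp [mul_comm])
  have hn' := Finset.mem_range.1 hn
  have h1 := h (n + 1) (by omega)
  rw [show ((n + 1 : ℕ) : ℤ) = (n : ℤ) + 1 by push_cast; ring] at h1
  rw [show (((d - 1 - n : ℕ) : ℤ) + 1) = (d : ℤ) + 1 - ((n : ℤ) + 1) by omega]
  exact h1

end Groth.Agent.FunFld
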