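import Groth.Agent.FunFld.LimSer.Plucker

/-! Consequences: cusps, chains of rational components. -/

namespace Groth.Agent.FunFld

open _root_.FunFld WithZero Finset

section

variable {k K : Type*} [Field k] [IsAlgClosed k] [CharZero k] [Field K] [Algebra k K]
  (hK : IsFunctionField k K) (hg : genus k K = 0) {D : Divisor k K} {V : Submodule k K} (hV : V ≤ L D)
  {d r : ℕ} (hD : D.deg = d) (hr : Module.finrank k V = r + 1)
include hK hg hV hD hr

/-- Two points next to a cusp. -/
theorem wsum_add_cusp_le (P Q R : Place k K) (hPQ : P ≠ Q) (hPR : P ≠ R) (hQR : Q ≠ R)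
    (hc : r ≤ av D V R 2) : wsum D V P d + wsum D V Q d + r ≤ (r + 1) * d := by
  classical
  have h := plucker hK hg hV hD hr P {Q, R} (by simp [hPQ, hPR])
  rw [Finset.sum_pair hQR, Finset.card_pair hQR] at h
  have := cusp_le_wsum hK hV hD hr R hc
  omega

theorem wsum_three_le (P Q R : Place k K) (hPQ : P ≠ Q) (hPR : P ≠ R) (hQR : Q ≠ R) :
    wsum D V P d + wsum D V Q d + wsum D V R d ≤ (r + 1) * d + r * (r + 1) / 2 := by
  classical
  have h := plucker hK hg hV hD hr P {Q, R} (by simp [hPQ, hPR])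
  rw [Finset.sum_pair hQR, Finset.card_pair hQR] at h
  omega

theorem wsum_four_cusp_le (P Q R S : Place k K) (hPQ : P ≠ Q) (hPR : P ≠ R) (hPS : P ≠ S) (hQR : Q ≠ R)
    (hQS : Q ≠ S) (hRS : R ≠ S) (hc : r ≤ av D V S 2) :
    wsum D V P d + wsum D V Q d + wsum D V R d + r ≤ (r + 1) * d + r * (r + 1) / 2 := by
  classical
  have h := plucker hK hg hV hD hr P {Q, R, S} (by simp [hPQ, hPR, hPS])
  rw [Finset.sum_insert (by simp [hQR, hQS]), Finset.sum_pair hRS, Finset.card_insert_of_notMem (by simp [hQR, hQS]),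
    Finset.card_pair hRS] at h
  have := cusp_le_wsum hK hV hD hr S hc
  omega

omit [CharZero k] hV hD hr in
theorem exists_place_notMem (s : Finset (Place k K)) : ∃ P : Place k K, P ∉ s := by
  obtain ⟨P0⟩ := exists_place_any hK
  obtain ⟨t, -, ht, hto⟩ := exists_coord hK hg P0
  haveI := infinite_places hK hg ht hto
  exact Infinite.exists_notMem_finset s

/-- Members with all zeros at two points are proportional when there is a cusp elsewhere. -/
theorem eq_smul_of_two_points {P P' R : Place k K} (hP : P ≠ R) (hP' : P' ≠ R)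
    (hc : r ≤ av D V R 2) {f g : K} (hf : f ∈ V) (hg' : g ∈ V) (hf0 : f ≠ 0) (hg0 : g ≠ 0)
    (hfs : ∀ S, S ≠ P → S ≠ P' → (div k f + D) S = 0) (hgs : ∀ S, S ≠ P → S ≠ P' → (div k g + D) S = 0) :
    ∃ c : k, g = c • f := by
  classical
  haveI := finite_of_le hK hV
  set u := g / f
  have hu0 : u ≠ 0 := div_ne_zero hg0 hf0
  have hgu : g = u * f := (div_mul_cancel₀ g hf0).symm
  have hordu : ∀ S, S ≠ P → S ≠ P' → S.ord u = 0 := fun S h1 h2 => by
    have e1 := hfs S h1 h2; have e2 := hgs S h1 h2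
    rw [Finsupp.add_apply, div_apply hK] at e1 e2
    rw [hgu, ord_mul S hu0 hf0] at e2
    omega
  have hdeg := deg_div hK u
  -- a member vanishing at `R` vanishes twice
  have hR0 : ∀ x ∈ V, R.1 x ≤ exp (D R - 1) → R.1 x ≤ exp (D R - 2) := by
    intro x hx h1
    have hmem : x ∈ V ⊓ L (D - Finsupp.single R 1) := ⟨hx, fun S => by
      rcases eq_or_ne S R with rfl | h
      · simpa using h1
      · simpa [Finsupp.single_eq_of_ne h] using hV hx S⟩
    have hfnot : f ∉ V ⊓ L (D - Finsupp.single R 1) := fun h => by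
      have h3 := h.2 R
      have e1 := hfs R hP.symm hP'.symm
      rw [Finsupp.add_apply, div_apply hK] at e1
      rw [le_exp_iff R hf0] at h3
      simp at h3; omega
    have hlt : V ⊓ L (D - Finsupp.single R 1) < V :=
      lt_of_le_of_ne inf_le_left fun e => hfnot (by rw [e]; exact hf)
    have h2 := Submodule.finrank_lt_finrank_of_lt hlt
    rw [hr] at h2
    have heq : V ⊓ L (D - Finsupp.single R 2) = V ⊓ L (D - Finsupp.single R 1) :=
      Submodule.eq_of_le_of_finrank_le
        (inf_le_inf_left _ (L_mono (sub_le_sub_left (Finsupp.single_mono (by norm_num)) D)))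
        (by simp only [av] at hc; omega)
    rw [← heq] at hmem
    simpa using hmem.2 R
  rcases eq_or_ne P P' with rfl | hne
  · -- `u` has no zero and no pole
    have e : (div k u : Divisor k K) = Finsupp.single P (P.ord u) := Finsupp.ext fun S => by
      rw [div_apply hK]
      rcases eq_or_ne S P with rfl | h
      · rw [Finsupp.single_eq_same]
      · rw [Finsupp.single_eq_of_ne h, hordu S h h]
    rw [e, deg_single, deg_eq_one hK] at hdeg
    obtain ⟨c, hcu⟩ := val_le_one_of_all hK (x := u) fun S => (ord_nonneg_iff S hu0).1 (by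
      rcases eq_or_ne S P with rfl | h
      · omega
      · exact (hordu S h h).ge)
    exact ⟨c, by rw [Algebra.smul_def, hcu]; exact hgu⟩
  -- coordinate with pole at `P'` and zero at `P`
  obtain ⟨t₀, -, ht₀, hto₀⟩ := exists_coord hK hg P'
  obtain ⟨a, ha, ha'⟩ := exists_zero_const hK hg ht₀ hto₀ hne
  set t := t₀ - algebraMap k K a with ht_def
  have hto : P'.ord t = -1 := ord_sub_C hK hg ht₀ hto₀ a
  have ht0 : t ≠ 0 := fun e => by rw [e, ord_zero] at hto; omega
  have hoS : ∀ S, S ≠ P → S ≠ P' → S.ord t = 0 := ha'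
  have ht : t ∈ L (Finsupp.single P' 1) := fun S => by
    rw [le_exp_iff S ht0]
    rcases eq_or_ne S P' with rfl | h
    · rw [Finsupp.single_eq_same, hto]
    · rw [Finsupp.single_eq_of_ne h]
      rcases eq_or_ne S P with rfl | h'
      · omega
      · rw [hoS S h' h]; rfl
  obtain ⟨b, hb, -⟩ := exists_zero_const hK hg ht hto hP'.symm
  have hb0 : b ≠ 0 := fun e => by
    rw [e, map_zero, sub_zero, hoS R hP.symm hP'.symm] at hb; exact zero_ne_one hb
  have hdivu : ∀ S : Place k K, S.ord u = P.ord u * S.ord t := by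
    intro S
    have hsum : P.ord u + P'.ord u = 0 := by
      have e : (div k u : Divisor k K) = Finsupp.single P (P.ord u) + Finsupp.single P' (P'.ord u) :=
        Finsupp.ext fun S => by
          rw [div_apply hK, Finsupp.add_apply]
          rcases eq_or_ne S P with rfl | h
          · rw [Finsupp.single_eq_same, Finsupp.single_eq_of_ne hne, add_zero]
          rcases eq_or_ne S P' with rfl | h'
          · rw [Finsupp.single_eq_same, Finsupp.single_eq_of_ne h, zero_add]
          · rw [Finsupp.single_eq_of_ne h, Finsupp.single_eq_of_ne h', hordu S h h', add_zero]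
      rw [e, deg_add, deg_single, deg_single, deg_eq_one hK, deg_eq_one hK] at hdeg
      omega
    rcases eq_or_ne S P with rfl | h
    · rw [ha, mul_one]
    rcases eq_or_ne S P' with rfl | h'
    · rw [hto]; linarith
    · rw [hordu S h h', hoS S h h', mul_zero]
  have aux : ∀ (j : ℕ) (f g u : K), f ∈ V → g ∈ V → f ≠ 0 → u ≠ 0 → R.ord f = -D R → g = u * f →
      (∀ S : Place k K, S.ord u = (j : ℤ) * S.ord t) → ∃ c : k, g = c • f := by
    intro j f g u hf hg'' hf0' hu hfo hgu hdiv
    have hpow : t ^ j ≠ 0 := pow_ne_zero _ ht0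
    obtain ⟨c, hc'⟩ := val_le_one_of_all hK (x := u * (t ^ j)⁻¹) fun S =>
      (ord_nonneg_iff S (mul_ne_zero hu (inv_ne_zero hpow))).1 (le_of_eq (by
        rw [ord_mul S hu (inv_ne_zero hpow), ord_inv, ord_pow, hdiv]; ring))
    have hu' : u = algebraMap k K c * t ^ j := by rw [hc', inv_mul_cancel_right₀ hpow]
    have hc0 : c ≠ 0 := fun e => hu (by rw [hu', e, map_zero, zero_mul])
    rcases Nat.eq_zero_or_pos j with rfl | hj
    · exact ⟨c, by rw [hgu, hu', pow_zero, mul_one, Algebra.smul_def]⟩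
    exfalso
    have hfv : R.1 f = exp (D R) := by rw [val_eq_exp R hf0', hfo, neg_neg]
    have hfval : False := by
      set x := g - (c * b ^ j) • f with hx
      have hxV : x ∈ V := sub_mem hg'' (Submodule.smul_mem _ _ hf)
      have hx' : x = algebraMap k K c * (t ^ j - algebraMap k K b ^ j) * f := by
        rw [hx, hgu, hu', Algebra.smul_def, map_mul, map_pow]; ring
      have hfac := geom_sum₂_mul t (algebraMap k K b) j
      have hsumval : R.1 (∑ i ∈ Finset.range j, t ^ i * algebraMap k K b ^ (j - 1 - i)) = 1 := by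
        have ht1 : R.1 t ≤ 1 := by simpa [Finsupp.single_eq_of_ne hP'.symm] using ht R
        have hne0 : t - algebraMap k K b ≠ 0 := fun e => by rw [e, ord_zero] at hb; exact zero_ne_one hb
        have hlt : R.1 (t - algebraMap k K b) < 1 := (ord_pos_iff R hne0).1 (by omega)
        have hdiff : R.1 ((∑ i ∈ Finset.range j, t ^ i * algebraMap k K b ^ (j - 1 - i)) -
            algebraMap k K ((j : k) * b ^ (j - 1))) < 1 := by
          have e : algebraMap k K ((j : k) * b ^ (j - 1)) =
              ∑ i ∈ Finset.range j, algebraMap k K b ^ i * algebraMap k K b ^ (j - 1 - i) := by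
            rw [Finset.sum_congr rfl fun i hi => show algebraMap k K b ^ i * algebraMap k K b ^ (j - 1 - i) =
              algebraMap k K b ^ (j - 1) by rw [← pow_add]; congr 1; have := Finset.mem_range.1 hi; omega]
            simp
          rw [e, ← Finset.sum_sub_distrib]
          refine Valuation.map_sum_lt _ one_ne_zero fun i _ => ?_
          rw [← sub_mul, map_mul, map_pow]
          refine lt_of_le_of_lt (mul_le_mul' le_rfl (pow_le_one' (R.2.1 b) _)) ?_
          rw [mul_one, ← geom_sum₂_mul t (algebraMap k K b) i, map_mul]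
          refine lt_of_le_of_lt (mul_le_mul' (Valuation.map_sum_le _ fun l _ => ?_) le_rfl) (by rwa [one_mul])
          rw [map_mul, map_pow, map_pow]
          exact mul_le_one' (pow_le_one' ht1 _) (pow_le_one' (R.2.1 b) _)
        have h1 : R.1 (algebraMap k K ((j : k) * b ^ (j - 1))) = 1 :=
          val_algebraMap R (mul_ne_zero (Nat.cast_ne_zero.2 hj.ne') (pow_ne_zero _ hb0))
        rw [← sub_add_cancel (∑ i ∈ Finset.range j, t ^ i * algebraMap k K b ^ (j - 1 - i))
          (algebraMap k K ((j : k) * b ^ (j - 1))), Valuation.map_add_eq_of_lt_right _ (h1.symm ▸ hdiff), h1]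
      have hne0 : t - algebraMap k K b ≠ 0 := fun e => by rw [e, ord_zero] at hb; exact zero_ne_one hb
      have hxval : R.1 x = exp (D R - 1) := by
        rw [hx', ← hfac, map_mul, map_mul, map_mul, hsumval, val_algebraMap R hc0, hfv, val_eq_exp R hne0, hb,
          one_mul, one_mul, ← exp_add]
        congr 1; ring
      have := hR0 x hxV hxval.le
      rw [hxval, exp_le_exp] at this
      omega
    exact hfval
  have hR : ∀ z : K, (∀ S, S ≠ P → S ≠ P' → (div k z + D) S = 0) → R.ord z = -D R := fun z hz => by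
    have := hz R hP.symm hP'.symm
    rw [Finsupp.add_apply, div_apply hK] at this
    omega
  rcases le_or_gt 0 (P.ord u) with hs | hs
  · exact aux (P.ord u).toNat f g u hf hg' hf0 hu0 (hR f hfs) hgu fun S => by
      rw [hdivu S, Int.toNat_of_nonneg hs]
  · obtain ⟨c, hc'⟩ := aux (-P.ord u).toNat g f u⁻¹ hg' hf hg0 (inv_ne_zero hu0) (hR g hgs)
      (by rw [hgu, inv_mul_cancel_left₀ hu0]) fun S => by
        rw [ord_inv, hdivu S, Int.toNat_of_nonneg (by omega)]; ring
    have hc0 : c ≠ 0 := fun e => hf0 (by rw [hc', e, zero_smul])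
    exact ⟨c⁻¹, by rw [hc', inv_smul_smul₀ hc0]⟩

end


theorem ell_le_one {k K : Type*} [Field k] [IsAlgClosed k] [Field K] [Algebra k K]
    (hK : IsFunctionField k K) (hg : 0 < genus k K) {E : Divisor k K} (hE : E.deg ≤ 1) : ell E ≤ 1 := by
  classical
  by_contra h
  have hne : L E ≠ ⊥ := fun e => by rw [ell, e, finrank_bot] at h; omega
  obtain ⟨x, hx, hpos⟩ := exists_effective hK hne
  set F := E + div k x
  have hF : F.deg ≤ 1 := by rw [deg_add, deg_div hK]; omega
  have hlF : 2 ≤ ell F := by rw [ell_add_div hK E hx]; omega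
  have hF0 : F ≠ 0 := fun e => by rw [e, ell_zero hK] at hlF; omega
  obtain ⟨P, hP⟩ : ∃ P, F P ≠ 0 := by
    by_contra h0; push Not at h0; exact hF0 (Finsupp.ext h0)
  have hP1 : (1 : ℤ) ≤ F P := by
    have h1 : (0 : ℤ) ≤ F P := hpos P
    omega
  have hle : Finsupp.single P 1 ≤ F := fun R => by
    rcases eq_or_ne R P with rfl | hR
    · rw [Finsupp.single_eq_same]; exact hP1
    · rw [Finsupp.single_eq_of_ne hR]; exact hpos R
  have he : Finsupp.single P 1 = F := eq_of_le_of_deg hK hle (by rw [deg_single, deg_eq_one hK]; push_cast; omega)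
  have hne' : ¬ L (Finsupp.single P 1) ≤ L (0 : Divisor k K) := fun hl => by
    have := L_finite hK (0 : Divisor k K)
    have h1 : ell (Finsupp.single P 1) ≤ ell (0 : Divisor k K) := Submodule.finrank_mono hl
    rw [ell_zero hK, he] at h1
    omega
  obtain ⟨t, ht, ht'⟩ := SetLike.not_le_iff_exists.1 hne'
  have ht0 : t ≠ 0 := fun e => ht' (e ▸ zero_mem _)
  have hnn : ∀ Q, Q ≠ P → 0 ≤ Q.ord t := fun Q hQ => by
    have := ht Q
    rw [le_exp_iff Q ht0, Finsupp.single_eq_of_ne hQ] at this
    omega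
  have ho : P.ord t = -1 := by
    obtain ⟨Q, hQ⟩ := not_forall.1 ht'
    rw [le_exp_iff Q ht0, Finsupp.coe_zero, Pi.zero_apply] at hQ
    rcases eq_or_ne Q P with rfl | hne
    · have := ht Q
      rw [le_exp_iff Q ht0, Finsupp.single_eq_same] at this
      omega
    · have := hnn Q hne; omega
  have := (rational_props hK (adjoin_eq_top_of_simple_pole hK (deg_eq_one hK P) ho hnn)).2.1
  omega

section Backbone

variable {k : Type*} [Field k] [IsAlgClosed k] [CharZero k]
  {N : ℕ} {Z : Fin (N + 1) → Type*} [∀ i, Field (Z i)] [∀ i, Algebra k (Z i)]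
  (hZ : ∀ i, IsFunctionField k (Z i)) (hrat : ∀ i, genus k (Z i) = 0)
  {d r : ℕ} {D : ∀ i, Divisor k (Z i)} (hD : ∀ i, (D i).deg = d)
  {V : ∀ i, Submodule k (Z i)} (hV : ∀ i, V i ≤ L (D i))
  (hVr : ∀ i, Module.finrank k ↥(V i) = r + 1)
  {A B : ∀ i, Place k (Z i)}
  (hAB : ∀ i : Fin (N + 1), 0 < (i : ℕ) → (i : ℕ) < N → A i ≠ B i)
  (hcomp : ∀ (l : Fin N) (m : ℕ), m ≤ d + 1 →
    av (D l.castSucc) (V l.castSucc) (B l.castSucc) (m : ℤ) +
      av (D l.succ) (V l.succ) (A l.succ) ((d : ℤ) + 1 - m) = r + 1)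
  {T : Finset (Fin (N + 1))} {Q : ∀ i, Place k (Z i)}
  (hQA : ∀ i ∈ T, 0 < (i : ℕ) → Q i ≠ A i) (hQB : ∀ i ∈ T, (i : ℕ) < N → Q i ≠ B i)
  (hcusp : ∀ i ∈ T, r ≤ av (D i) (V i) (Q i) 2)

include hZ hrat hD hV hVr hcusp in
theorem two_le (i : Fin (N + 1)) (P R : Place k (Z i)) (hPR : P ≠ R) (hP : i ∈ T → P ≠ Q i)
    (hR : i ∈ T → R ≠ Q i) :
    wsum (D i) (V i) P d + wsum (D i) (V i) R d + r * (if i ∈ T then 1 else 0) ≤ (r + 1) * d := by
  split_ifs with hi
  · rw [mul_one]
    exact wsum_add_cusp_le (hZ i) (hrat i) (hV i) (hD i) (hVr i) P R (Q i) hPR (hP hi) (hR hi) (hcusp i hi)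
  · rw [mul_zero, add_zero]
    exact wsum_add_le (hZ i) (hV i) (hD i) (hVr i) P R hPR

include hZ hrat hD hV hVr hAB hcomp hQA hQB hcusp in
theorem left_bound (i : Fin (N + 1)) : ∀ s : Finset (Place k (Z i)), (0 < (i : ℕ) → A i ∉ s) →
    ∃ P ∉ s, (0 < (i : ℕ) → P = A i) ∧
      r * (r + 1) / 2 + r * (T.filter fun j => j < i).card ≤ wsum (D i) (V i) P d := by
  classical
  induction i using Fin.induction with
  | zero =>
    intro s _
    obtain ⟨P, hP⟩ := exists_place_notMem (hZ 0) (hrat 0) s
    refine ⟨P, hP, by simp, ?_⟩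
    rw [Finset.filter_false_of_mem fun j _ => Fin.not_lt_zero j, Finset.card_empty, mul_zero, add_zero]
    exact tri_le_wsum (hZ 0) (hV 0) (hD 0) (hVr 0) P
  | succ l ih =>
    intro s hs
    refine ⟨A l.succ, hs (by simp), fun _ => rfl, ?_⟩
    have hlN : ((l.castSucc : Fin (N + 1)) : ℕ) < N := by simp
    obtain ⟨P, hPs, -, hP⟩ := ih (insert (B l.castSucc) (if l.castSucc ∈ T then {Q l.castSucc} else ∅)) fun h => by
      rw [Finset.mem_insert, not_or]
      refine ⟨hAB _ h hlN, ?_⟩
      split_ifs with hT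
      · rw [Finset.mem_singleton]; exact (hQA _ hT h).symm
      · simp
    rw [Finset.mem_insert, not_or] at hPs
    have h2 := two_le hZ hrat hD hV hVr hcusp l.castSucc P (B l.castSucc) hPs.1
      (fun hT e => hPs.2 (by rw [if_pos hT, e]; exact Finset.mem_singleton_self _))
      (fun hT => (hQB _ hT hlN).symm)
    have h3 := wsum_compat (P := B l.castSucc) (Q := A l.succ) (d := d) (r := r) (hcomp l)
    have hcard : (T.filter fun j => j < l.succ).card =
        (T.filter fun j => j < l.castSucc).card + if l.castSucc ∈ T then 1 else 0 := by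
      rw [show (T.filter fun j => j < l.succ) =
        (T.filter fun j => j < l.castSucc) ∪ T.filter (fun j => j = l.castSucc) by
          ext j; simp only [Finset.mem_filter, Finset.mem_union, Fin.lt_def, Fin.ext_iff, Fin.val_succ, Fin.val_castSucc]
          constructor
          · rintro ⟨hT, hj⟩; by_cases e : (j : ℕ) = l
            · exact Or.inr ⟨hT, e⟩
            · exact Or.inl ⟨hT, by omega⟩
          · rintro (⟨hT, hj⟩ | ⟨hT, hj⟩) <;> exact ⟨hT, by omega⟩,
        Finset.card_union_of_disjoint (Finset.disjoint_filter.2 fun j _ hj e => (ne_of_lt hj) e),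
        Finset.filter_eq']
      split_ifs <;> simp
    rw [hcard, Nat.mul_add r (T.filter fun j => j < l.castSucc).card]
    omega

include hZ hrat hD hV hVr hAB hcomp hQA hQB hcusp in
theorem right_bound (i : Fin (N + 1)) : ∀ s : Finset (Place k (Z i)), ((i : ℕ) < N → B i ∉ s) →
    ∃ P ∉ s, ((i : ℕ) < N → P = B i) ∧
      r * (r + 1) / 2 + r * (T.filter fun j => i < j).card ≤ wsum (D i) (V i) P d := by
  classical
  induction i using Fin.reverseInduction with
  | last =>
    intro s _
    obtain ⟨P, hP⟩ := exists_place_notMem (hZ _) (hrat _) s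
    refine ⟨P, hP, by simp, ?_⟩
    rw [Finset.filter_false_of_mem fun j _ => not_lt.2 (Fin.le_last j), Finset.card_empty, mul_zero, add_zero]
    exact tri_le_wsum (hZ _) (hV _) (hD _) (hVr _) P
  | cast l ih =>
    intro s hs
    refine ⟨B l.castSucc, hs (by simp), fun _ => rfl, ?_⟩
    have hl0 : 0 < ((l.succ : Fin (N + 1)) : ℕ) := by simp
    obtain ⟨P, hPs, -, hP⟩ := ih (insert (A l.succ) (if l.succ ∈ T then {Q l.succ} else ∅)) fun h => by
      rw [Finset.mem_insert, not_or]
      refine ⟨(hAB _ hl0 h).symm, ?_⟩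
      split_ifs with hT
      · rw [Finset.mem_singleton]; exact (hQB _ hT h).symm
      · simp
    rw [Finset.mem_insert, not_or] at hPs
    have h2 := two_le hZ hrat hD hV hVr hcusp l.succ P (A l.succ) hPs.1
      (fun hT e => hPs.2 (by rw [if_pos hT, e]; exact Finset.mem_singleton_self _))
      (fun hT => (hQA _ hT hl0).symm)
    have h3 := wsum_compat (P := B l.castSucc) (Q := A l.succ) (d := d) (r := r) (hcomp l)
    have hcard : (T.filter fun j => l.castSucc < j).card =
        (T.filter fun j => l.succ < j).card + if l.succ ∈ T then 1 else 0 := by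
      rw [show (T.filter fun j => l.castSucc < j) =
        (T.filter fun j => l.succ < j) ∪ T.filter (fun j => j = l.succ) by
          ext j; simp only [Finset.mem_filter, Finset.mem_union, Fin.lt_def, Fin.ext_iff, Fin.val_succ, Fin.val_castSucc]
          constructor
          · rintro ⟨hT, hj⟩; by_cases e : (j : ℕ) = l + 1
            · exact Or.inr ⟨hT, e⟩
            · exact Or.inl ⟨hT, by omega⟩
          · rintro (⟨hT, hj⟩ | ⟨hT, hj⟩) <;> exact ⟨hT, by omega⟩,
        Finset.card_union_of_disjoint (Finset.disjoint_filter.2 fun j _ hj e => (ne_of_gt hj) e),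
        Finset.filter_eq']
      split_ifs <;> simp
    rw [hcard, Nat.mul_add r (T.filter fun j => l.succ < j).card]
    omega

omit [IsAlgClosed k] [CharZero k] in
theorem card_split (i : Fin (N + 1)) :
    T.card = (T.filter fun j => j < i).card + (T.filter fun j => i < j).card + (if i ∈ T then 1 else 0) ∧
    (T.erase i).card = (T.filter fun j => j < i).card + (T.filter fun j => i < j).card := by
  classical
  have h : (T.erase i).card = (T.filter fun j => j < i).card + (T.filter fun j => i < j).card := by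
    rw [← Finset.card_union_of_disjoint (Finset.disjoint_filter.2 fun j _ h1 h2 => lt_asymm h1 h2)]
    congr 1
    ext j
    simp only [Finset.mem_erase, Finset.mem_union, Finset.mem_filter]
    constructor
    · rintro ⟨hne, hT⟩
      rcases lt_or_gt_of_ne hne with h | h
      · exact Or.inl ⟨hT, h⟩
      · exact Or.inr ⟨hT, h⟩
    · rintro (⟨hT, h⟩ | ⟨hT, h⟩)
      · exact ⟨ne_of_lt h, hT⟩
      · exact ⟨ne_of_gt h, hT⟩
  refine ⟨?_, h⟩
  rw [← h]
  split_ifs with hi
  · exact (Finset.card_erase_add_one hi).symm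
  · rw [Finset.erase_eq_of_notMem hi, add_zero]

include hZ hrat hD hV hVr hAB hcomp hQA hQB hcusp in
/-- The basic configuration at a component. -/
theorem exists_two_bounds (i : Fin (N + 1)) (s : Finset (Place k (Z i))) (hA : 0 < (i : ℕ) → A i ∉ s)
    (hB : (i : ℕ) < N → B i ∉ s) :
    ∃ P R, P ≠ R ∧ P ∉ s ∧ R ∉ s ∧ (i ∈ T → P ≠ Q i) ∧ (i ∈ T → R ≠ Q i) ∧
      r * (r + 1) + r * (T.erase i).card ≤ wsum (D i) (V i) P d + wsum (D i) (V i) R d := by
  classical
  let s' := s ∪ if i ∈ T then {Q i} else ∅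
  have hmem : ∀ x, x ∈ s' ↔ x ∈ s ∨ (i ∈ T ∧ x = Q i) := fun x => by
    simp only [s', Finset.mem_union]; split_ifs with h <;> simp [h]
  obtain ⟨P, hPs, -, hP⟩ := left_bound hZ hrat hD hV hVr hAB hcomp hQA hQB hcusp i
    (s' ∪ if (i : ℕ) < N then {B i} else ∅) fun h => by
      rw [Finset.mem_union, hmem, not_or, not_or]
      refine ⟨⟨hA h, fun hh => hQA i hh.1 h hh.2.symm⟩, ?_⟩
      split_ifs with hN
      · rw [Finset.mem_singleton]; exact hAB i h hN
      · simp
  rw [Finset.mem_union, not_or, hmem, not_or] at hPs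
  obtain ⟨R, hRs, -, hR⟩ := right_bound hZ hrat hD hV hVr hAB hcomp hQA hQB hcusp i (insert P s') fun h => by
    rw [Finset.mem_insert, hmem, not_or, not_or]
    refine ⟨fun e => hPs.2 (by rw [if_pos h, ← e]; exact Finset.mem_singleton_self _), hB h,
      fun hh => hQB i hh.1 h hh.2.symm⟩
  rw [Finset.mem_insert, hmem, not_or, not_or] at hRs
  refine ⟨P, R, Ne.symm hRs.1, hPs.1.1, hRs.2.1, fun hT e => hPs.1.2 ⟨hT, e⟩, fun hT e => hRs.2.2 ⟨hT, e⟩, ?_⟩
  have := two_tri r
  rw [(card_split (T := T) i).2, Nat.mul_add r (T.filter fun j => j < i).card]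
  omega

end Backbone

section Chain

variable {k : Type*} [Field k] [IsAlgClosed k]
  {n : ℕ} {U : Fin (n + 1) → Type*} [∀ l, Field (U l)] [∀ l, Algebra k (U l)]
  (hU : ∀ l, IsFunctionField k (U l))
  {d r : ℕ} {D : ∀ l, Divisor k (U l)} (hD : ∀ l, (D l).deg = d)
  {V : ∀ l, Submodule k (U l)} (hV : ∀ l, V l ≤ L (D l))
  (hVr : ∀ l, Module.finrank k ↥(V l) = r + 1)
  {A B : ∀ l, Place k (U l)}
  (hcomp : ∀ (l : Fin n) (m : ℕ), m ≤ d + 1 →
    av (D l.castSucc) (V l.castSucc) (B l.castSucc) (m : ℤ) +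
      av (D l.succ) (V l.succ) (A l.succ) ((d : ℤ) + 1 - m) = r + 1)
include hU hD hV hVr hcomp

theorem chain_lower (hAB : ∀ l : Fin (n + 1), 0 < (l : ℕ) → (l : ℕ) < n → A l ≠ B l) (c : ℕ)
    (hc : wsum (D 0) (V 0) (B 0) d + c + r * (r + 1) ≤ (r + 1) * d + r * (r + 1) / 2) :
    ∀ l : Fin (n + 1), 0 < (l : ℕ) → c + r * (r + 1) / 2 ≤ wsum (D l) (V l) (A l) d := by
  intro l
  induction l using Fin.induction with
  | zero => simp
  | succ l ih =>
    intro _
    have h3 := wsum_compat (P := B l.castSucc) (Q := A l.succ) (d := d) (r := r) (hcomp l)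
    rcases Nat.eq_zero_or_pos (l : ℕ) with h0 | hpos
    · have e : l.castSucc = 0 := Fin.ext (by simpa using h0)
      rw [e] at h3
      have := two_tri r
      omega
    · have h2 := wsum_add_le (hU l.castSucc) (hV _) (hD _) (hVr _) (A l.castSucc) (B l.castSucc)
        (hAB _ (by simpa using hpos) (by simp))
      have := ih (by simpa using hpos)
      omega

theorem cusp_chain (hd : 0 < d) (lo : ℕ)
    (hrat : ∀ l : Fin (n + 1), lo ≤ (l : ℕ) → (l : ℕ) < n → A l ≠ B l)
    (hpos : 0 < genus k (U (Fin.last n))) :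
    ∀ l : Fin (n + 1), lo ≤ (l : ℕ) → av (D l) (V l) (A l) ((d : ℤ) - 1) ≤ 1 := by
  intro l
  induction l using Fin.reverseInduction with
  | last =>
    intro _
    haveI := finite_of_le (hU (Fin.last n)) (hV (Fin.last n))
    haveI := L_finite (hU (Fin.last n)) (D (Fin.last n) - Finsupp.single (A (Fin.last n)) ((d : ℤ) - 1))
    exact (Submodule.finrank_mono inf_le_right).trans (ell_le_one (hU _) hpos (by
      rw [deg_sub, deg_single, deg_eq_one (hU _), hD]; push_cast; omega))
  | cast l ih =>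
    intro hl
    have h1 := ih (by simp at hl ⊢; omega)
    have h2 := hcomp l 2 (by omega)
    rw [show ((2 : ℕ) : ℤ) = 2 from rfl, show (d : ℤ) + 1 - 2 = (d : ℤ) - 1 by ring] at h2
    have h3 := av_add_le_of_lt (hU _) (hV _) (hD _) (hVr _) (A l.castSucc) (B l.castSucc)
      (hrat _ hl (by simp)) (n := (d : ℤ) - 1) (m := 2) (by omega)
    omega

end Chain

end Groth.Agent.FunFld
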