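import Mathlib

/-! Wronskians of polynomials: degree and divisibility; adapted bases of filtrations. -/

namespace Groth.Agent.FunFld

open Polynomial Finset

/-- An adapted basis of a filtration dropping by at most one in each step. -/
theorem exists_adapted {k M : Type*} [Field k] [AddCommGroup M] [Module k M] (d r : ℕ)
    (W : ℕ → Submodule k M) [∀ n, FiniteDimensional k (W n)] (hanti : ∀ n, W (n + 1) ≤ W n)
    (hdrop : ∀ n, Module.finrank k (W n) ≤ Module.finrank k (W (n + 1)) + 1)
    (htop : W (d + 1) = ⊥) (h0 : Module.finrank k (W 0) = r + 1) :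
    ∃ (m : Fin (r + 1) → ℕ) (v : Fin (r + 1) → M), Function.Injective m ∧
      (∀ i, m i ≤ d ∧ v i ∈ W (m i) ∧ v i ∉ W (m i + 1)) ∧ LinearIndependent k v ∧
      ∑ n ∈ range d, Module.finrank k (W (n + 1)) = ∑ i, m i := by
  classical
  have hmono : Antitone W := antitone_nat_of_succ_le hanti
  let J := (range (d + 1)).filter fun n => Module.finrank k (W (n + 1)) < Module.finrank k (W n)
  have hcount : ∀ n ≤ d + 1, Module.finrank k (W n) = (J.filter fun m => n ≤ m).card := by
    intro n hn
    induction hn using Nat.decreasingInduction with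
    | self =>
      rw [htop, finrank_bot, eq_comm, Finset.card_eq_zero, Finset.filter_eq_empty_iff]
      intro m hm hle
      have := Finset.mem_range.1 (Finset.mem_filter.1 hm).1
      omega
    | of_succ n hn ih =>
      have h1 := Submodule.finrank_mono (hanti n)
      have h2 := hdrop n
      by_cases hJ : n ∈ J
      · have e : J.filter (fun m => n ≤ m) = insert n (J.filter fun m => n + 1 ≤ m) := by
          ext m; simp only [Finset.mem_filter, Finset.mem_insert]
          constructor
          · rintro ⟨hm, hle⟩; by_cases e : m = n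
            · exact Or.inl e
            · exact Or.inr ⟨hm, by omega⟩
          · rintro (rfl | ⟨hm, hle⟩)
            · exact ⟨hJ, le_rfl⟩
            · exact ⟨hm, by omega⟩
        rw [e, Finset.card_insert_of_notMem (by simp), ← ih]
        have := (Finset.mem_filter.1 hJ).2
        omega
      · have e : J.filter (fun m => n ≤ m) = J.filter fun m => n + 1 ≤ m := by
          ext m; simp only [Finset.mem_filter]
          constructor
          · rintro ⟨hm, hle⟩; exact ⟨hm, Nat.succ_le_of_lt (lt_of_le_of_ne hle fun e => hJ (e ▸ hm))⟩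
          · rintro ⟨hm, hle⟩; exact ⟨hm, by omega⟩
        rw [e, ← ih]
        have h3 : ¬ Module.finrank k (W (n + 1)) < Module.finrank k (W n) := fun h =>
          hJ (Finset.mem_filter.2 ⟨Finset.mem_range.2 (by omega), h⟩)
        omega
  have hJc : J.card = r + 1 := by
    have := hcount 0 (by omega)
    rw [h0, Finset.filter_true_of_mem fun m _ => Nat.zero_le m] at this
    exact this.symm
  let e : Fin (r + 1) ≃ J := (J.equivFinOfCardEq hJc).symm
  have hv : ∀ j : J, ∃ v : M, v ∈ W (j : ℕ) ∧ v ∉ W ((j : ℕ) + 1) := fun j => by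
    have hj := (Finset.mem_filter.1 j.2).2
    by_contra hc
    push Not at hc
    exact absurd (Submodule.finrank_mono (show W (j : ℕ) ≤ W ((j : ℕ) + 1) from hc)) (not_le.2 hj)
  choose v hv1 hv2 using hv
  refine ⟨fun i => (e i : ℕ), fun i => v (e i), fun a b h => e.injective (Subtype.ext h),
    fun i => ⟨by show (e i : ℕ) ≤ d; have := Finset.mem_range.1 (Finset.mem_filter.1 (e i).2).1; omega, hv1 _, hv2 _⟩, ?_, ?_⟩
  · rw [linearIndependent_iff']
    intro s c hc i hi
    by_contra hne
    set t := s.filter fun i => c i ≠ 0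
    obtain ⟨i₀, hi₀, hmin⟩ := Finset.exists_min_image t (fun i => (e i : ℕ)) ⟨i, Finset.mem_filter.2 ⟨hi, hne⟩⟩
    have hi₀' := Finset.mem_filter.1 hi₀
    refine hv2 (e i₀) ?_
    rw [← Finset.add_sum_erase _ _ hi₀'.1, add_eq_zero_iff_eq_neg] at hc
    have hmem : c i₀ • v (e i₀) ∈ W ((e i₀ : ℕ) + 1) := by
      rw [hc]
      refine neg_mem (sum_mem fun j hj => ?_)
      rcases eq_or_ne (c j) 0 with h0' | h0'
      · simp [h0']
      · refine Submodule.smul_mem _ _ (hmono ?_ (hv1 _))
        have h1 : (e i₀ : ℕ) ≤ e j := hmin j (Finset.mem_filter.2 ⟨Finset.mem_of_mem_erase hj, h0'⟩)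
        have h2 : (e j : ℕ) ≠ e i₀ := fun h => Finset.ne_of_mem_erase hj (e.injective (Subtype.ext h))
        omega
    exact (Submodule.smul_mem_iff _ hi₀'.2).1 hmem
  · rw [Equiv.sum_comp e (fun j : J => (j : ℕ)), Finset.sum_coe_sort J (fun j => j)]
    calc ∑ n ∈ range d, Module.finrank k (W (n + 1))
        = ∑ n ∈ range d, ∑ m ∈ J, if n + 1 ≤ m then 1 else 0 := Finset.sum_congr rfl fun n hn => by
          rw [hcount _ (by have := Finset.mem_range.1 hn; omega), Finset.card_filter]
      _ = ∑ m ∈ J, ∑ n ∈ range d, if n + 1 ≤ m then 1 else 0 := Finset.sum_comm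
      _ = ∑ m ∈ J, m := Finset.sum_congr rfl fun m hm => by
          rw [← Finset.card_filter]
          have : (range d).filter (fun n => n + 1 ≤ m) = range m := by
            ext n
            have := Finset.mem_range.1 (Finset.mem_filter.1 hm).1
            simp only [Finset.mem_filter, Finset.mem_range]; omega
          rw [this, Finset.card_range]

variable {k : Type*} [Field k] {n : ℕ}

/-- The Wronskian matrix. -/
noncomputable def wronskM (p : Fin n → k[X]) : Matrix (Fin n) (Fin n) k[X] :=
  Matrix.of fun i j => derivative^[(j : ℕ)] (p i)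

theorem wronskM_comb (A : Matrix (Fin n) (Fin n) k) (p q : Fin n → k[X])
    (h : ∀ i, p i = ∑ l, A i l • q l) : wronskM p = A.map C * wronskM q := by
  ext1 i j
  rw [Matrix.mul_apply]
  simp only [wronskM, Matrix.of_apply, Matrix.map_apply]
  rw [h, Polynomial.iterate_derivative_sum]
  exact Finset.sum_congr rfl fun l _ => by rw [Polynomial.iterate_derivative_smul, smul_eq_C_mul]

theorem det_wronskM_comb (A : Matrix (Fin n) (Fin n) k) (p q : Fin n → k[X])
    (h : ∀ i, p i = ∑ l, A i l • q l) : (wronskM p).det = C A.det * (wronskM q).det := by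
  rw [wronskM_comb A p q h, Matrix.det_mul, RingHom.map_det]
  rfl

theorem coeff_prod_bound {ι : Type*} (s : Finset ι) (f : ι → k[X]) (b : ι → ℕ)
    (h : ∀ i ∈ s, (f i).natDegree ≤ b i) :
    (∏ i ∈ s, f i).natDegree ≤ ∑ i ∈ s, b i ∧
      (∏ i ∈ s, f i).coeff (∑ i ∈ s, b i) = ∏ i ∈ s, (f i).coeff (b i) := by
  classical
  induction s using Finset.induction_on with
  | empty => simp
  | insert a s ha ih =>
    obtain ⟨h1, h2⟩ := ih fun i hi => h i (Finset.mem_insert_of_mem hi)
    have ha' := h a (Finset.mem_insert_self a s)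
    simp only [Finset.prod_insert ha, Finset.sum_insert ha]
    exact ⟨natDegree_mul_le.trans (add_le_add ha' h1),
      by rw [coeff_mul_add_eq_of_natDegree_le ha' h1, h2]⟩

theorem wronskian_degree [CharZero k] (p : Fin n → k[X]) (e : Fin n → ℕ) (he : Function.Injective e)
    (hp : ∀ i, p i ≠ 0 ∧ (p i).natDegree = e i) :
    (wronskM p).det ≠ 0 ∧ (wronskM p).det.natDegree + ∑ i : Fin n, (i : ℕ) ≤ ∑ i, e i := by
  classical
  let N : Matrix (Fin n) (Fin n) k[X] := Matrix.of fun i j => X ^ (j : ℕ) * derivative^[(j : ℕ)] (p i)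
  have hN : N.det = X ^ (∑ i : Fin n, (i : ℕ)) * (wronskM p).det := by
    rw [← Finset.prod_pow_eq_pow_sum]
    exact Matrix.det_mul_row (fun j : Fin n => (X : k[X]) ^ (j : ℕ)) (wronskM p)
  have hent : ∀ i j, (N i j).natDegree ≤ e i ∧
      (N i j).coeff (e i) = (p i).leadingCoeff * ((e i).descFactorial (j : ℕ) : k) := by
    intro i j
    simp only [N, Matrix.of_apply]
    rcases lt_or_ge (e i) (j : ℕ) with hlt | hge
    · rw [iterate_derivative_eq_zero (by rw [(hp i).2]; exact hlt), mul_zero, natDegree_zero, coeff_zero,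
        Nat.descFactorial_of_lt hlt]
      simp
    · refine ⟨natDegree_mul_le.trans ?_, ?_⟩
      · rw [natDegree_X_pow]
        have := natDegree_iterate_derivative (p i) (j : ℕ)
        rw [(hp i).2] at this
        omega
      · rw [coeff_X_pow_mul', if_pos hge, coeff_iterate_derivative, Nat.sub_add_cancel hge, nsmul_eq_mul,
          mul_comm, Polynomial.leadingCoeff, (hp i).2]
  set E := ∑ i, e i
  have hterm : ∀ σ : Equiv.Perm (Fin n), (∏ i, N (σ i) i).natDegree ≤ E ∧
      (∏ i, N (σ i) i).coeff E = ∏ i, (N (σ i) i).coeff (e (σ i)) := by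
    intro σ
    have h := coeff_prod_bound Finset.univ (fun i => N (σ i) i) (fun i => e (σ i)) (fun i _ => (hent _ _).1)
    rwa [Equiv.sum_comp σ e] at h
  have hdeg : N.det.natDegree ≤ E := by
    rw [Matrix.det_apply]
    exact natDegree_sum_le_of_forall_le _ _ fun σ _ => (natDegree_smul_le _ _).trans (hterm σ).1
  have hcoeff : N.det.coeff E =
      (∏ i, (p i).leadingCoeff) * (Matrix.vandermonde fun i => (e i : k)).det := by
    rw [Matrix.det_apply, finsetSum_coeff]
    simp only [Polynomial.coeff_smul, fun σ => (hterm σ).2]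
    refine Eq.trans (b := (Matrix.of fun i j : Fin n => (N i j).coeff (e i)).det) (by rw [Matrix.det_apply]; rfl) ?_
    rw [show (Matrix.of fun i j : Fin n => (N i j).coeff (e i)) = Matrix.of fun i j : Fin n =>
      (p i).leadingCoeff * ((e i).descFactorial (j : ℕ) : k) from by ext i j; exact (hent i j).2]
    rw [show (Matrix.of fun i j : Fin n => (p i).leadingCoeff * ((e i).descFactorial (j : ℕ) : k)) =
      Matrix.of fun i j : Fin n => (p i).leadingCoeff *
        (Matrix.of fun i j : Fin n => ((descPochhammer k (j : ℕ)).eval (e i : k))) i j from by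
          ext i j; simp only [Matrix.of_apply, descPochhammer_eval_eq_descFactorial],
      Matrix.det_mul_column]
    congr 1
    exact (Matrix.det_eval_matrixOfPolynomials_eq_det_vandermonde (fun i => (e i : k))
      (fun j => descPochhammer k (j : ℕ)) (fun j => descPochhammer_natDegree k j)
      (fun j => monic_descPochhammer k j)).symm
  have hne : N.det.coeff E ≠ 0 := by
    rw [hcoeff]
    exact mul_ne_zero (Finset.prod_ne_zero_iff.2 fun i _ => leadingCoeff_ne_zero.2 (hp i).1)
      (Matrix.det_vandermonde_ne_zero_iff.2 (Nat.cast_injective.comp he))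
  have hW : (wronskM p).det ≠ 0 := fun h => hne (by rw [hN, h, mul_zero, coeff_zero])
  refine ⟨hW, ?_⟩
  rw [hN, natDegree_mul (pow_ne_zero _ X_ne_zero) hW, natDegree_X_pow] at hdeg
  omega

theorem wronskian_dvd (p : Fin n → k[X]) (c : k) (m : Fin n → ℕ) (hp : ∀ i, (X - C c) ^ (m i) ∣ p i) :
    (X - C c) ^ ((∑ i, m i) - ∑ i : Fin n, (i : ℕ)) ∣ (wronskM p).det := by
  rw [Matrix.det_apply]
  refine Finset.dvd_sum fun σ _ => ?_
  rw [Units.smul_def, zsmul_eq_mul]
  refine Dvd.dvd.mul_left ?_ _
  refine (pow_dvd_pow _ ?_).trans ((Finset.prod_pow_eq_pow_sum Finset.univ (fun i => m (σ i) - (i : ℕ)) (X - C c)).symm.dvd.trans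
    (Finset.prod_dvd_prod_of_dvd _ _ fun i _ => pow_sub_dvd_iterate_derivative_of_pow_dvd (i : ℕ) (hp (σ i))))
  have h1 : ∑ i, m (σ i) ≤ ∑ i, ((m (σ i) - (i : ℕ)) + (i : ℕ)) := Finset.sum_le_sum fun i _ => by omega
  rw [Finset.sum_add_distrib, Equiv.sum_comp σ m] at h1
  omega

end Groth.Agent.FunFld
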