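import Groth.Agent.FunFld.LimSer.Basic
import Groth.Agent.FunFld.LimSer.PolyWr

/-! Linear series on the projective line: the Plücker bound on ramification. -/

namespace Groth.Agent.FunFld

open _root_.FunFld WithZero IsLocalRing Polynomial

variable {k K : Type*} [Field k] [IsAlgClosed k] [Field K] [Algebra k K]
  (hK : IsFunctionField k K) (hg : genus k K = 0)
include hK hg

theorem exists_coord (Pinf : Place k K) :
    ∃ t : K, Transcendental k t ∧ t ∈ L (Finsupp.single Pinf 1) ∧ Pinf.ord t = -1 := by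
  have hd := deg_eq_one hK Pinf
  have hl := ell_eq_of_deg_ge hK (D := Finsupp.single Pinf 1) (by rw [deg_single, hd, hg]; norm_num)
  rw [deg_single, hd, hg] at hl
  have hne : ¬ L (Finsupp.single Pinf 1) ≤ L (0 : Divisor k K) := fun h => by
    have := L_finite hK (0 : Divisor k K)
    have h1 : ell (Finsupp.single Pinf 1) ≤ ell (0 : Divisor k K) := Submodule.finrank_mono h
    rw [ell_zero hK] at h1
    omega
  obtain ⟨t, ht, ht'⟩ := SetLike.not_le_iff_exists.1 hne
  have ht0 : t ≠ 0 := fun e => ht' (e ▸ zero_mem _)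
  have ho : Pinf.ord t = -1 := by
    obtain ⟨Q, hQ⟩ := not_forall.1 ht'
    have := ht Q
    rw [le_exp_iff Q ht0] at this hQ
    rcases eq_or_ne Q Pinf with rfl | hne
    · rw [Finsupp.single_eq_same] at this
      simp at hQ
      omega
    · rw [Finsupp.single_eq_of_ne hne] at this
      simp at hQ
      omega
  exact ⟨t, mem_range_of_ord hK (by rw [ho]; decide), ht, ho⟩

variable {Pinf : Place k K} {t : K} (ht : t ∈ L (Finsupp.single Pinf 1)) (hto : Pinf.ord t = -1)
include ht hto

theorem tr_t : Transcendental k t := mem_range_of_ord hK (P := Pinf) (by rw [hto]; decide)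

theorem ord_sub_C (c : k) : Pinf.ord (t - algebraMap k K c) = -1 := by
  have h0 : t ≠ 0 := fun e => by rw [e, ord_zero] at hto; omega
  have h1 : Pinf.1 t = exp 1 := by rw [val_eq_exp Pinf h0, hto]; rfl
  have h2 : Pinf.1 (algebraMap k K c) < Pinf.1 t :=
    (Pinf.2.1 c).trans_lt (by rw [h1, ← exp_zero, exp_lt_exp]; omega)
  rw [ord_eq_of_val Pinf (n := 1)]
  rw [Valuation.map_sub_eq_of_lt_left _ h2, h1]

theorem exists_zero_const {Q : Place k K} (hQ : Q ≠ Pinf) :
    ∃ c : k, Q.ord (t - algebraMap k K c) = 1 ∧ ∀ R, R ≠ Q → R ≠ Pinf → R.ord (t - algebraMap k K c) = 0 := by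
  classical
  have ht1 : Q.1 t ≤ 1 := by simpa [Finsupp.single_eq_of_ne hQ] using ht Q
  obtain ⟨c, hc⟩ := (finrank_eq_one_iff_of_nonzero' (K := k)
    (1 : ResidueField Q.O) one_ne_zero).1 (deg_eq_one hK Q) (residue Q.O ⟨t, ht1⟩)
  refine ⟨c, ?_⟩
  set u := t - algebraMap k K c with hu
  have hlt : Q.1 u < 1 := by
    have h0 : residue Q.O ((⟨t, ht1⟩ : Q.O) - algebraMap k Q.O c) = 0 := by
      rw [map_sub, sub_eq_zero, ← hc]; exact (Algebra.algebraMap_eq_smul_one (A := ResidueField Q.O) c).symm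
    rw [residue_eq_zero_iff, mem_maximalIdeal, mem_nonunits_iff] at h0
    exact lt_of_le_of_ne ((⟨t, ht1⟩ : Q.O) - algebraMap k Q.O c).2 fun e => h0
      ((Valuation.integer.integers Q.1).isUnit_iff_valuation_eq_one.2 e)
  have hu0 : u ≠ 0 := fun e => by
    have := ord_sub_C hK hg ht hto c
    rw [← hu, e, ord_zero] at this; omega
  have hpos : 0 < Q.ord u := (ord_pos_iff Q hu0).2 hlt
  have hnn : ∀ R, R ≠ Pinf → 0 ≤ R.ord u := fun R hR => (ord_nonneg_iff R hu0).2
    ((Valuation.map_sub _ _ _).trans (max_le (by simpa [Finsupp.single_eq_of_ne hR] using ht R) (R.2.1 c)))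
  have e : Finsupp.single Q 1 = div k u + Finsupp.single Pinf 1 := by
    refine eq_of_le_of_deg hK (fun R => ?_) ?_
    · rw [Finsupp.add_apply, div_apply hK]
      rcases eq_or_ne R Pinf with rfl | hR
      · rw [Finsupp.single_eq_of_ne (Ne.symm hQ), Finsupp.single_eq_same, ord_sub_C hK hg ht hto]; norm_num
      · rw [Finsupp.single_eq_of_ne hR, add_zero]
        rcases eq_or_ne R Q with rfl | hRQ
        · rw [Finsupp.single_eq_same]; omega
        · rw [Finsupp.single_eq_of_ne hRQ]; exact hnn R hR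
    · rw [deg_add, deg_div hK, deg_single, deg_single, deg_eq_one hK, deg_eq_one hK]; norm_num
  refine ⟨?_, fun R hR hR' => ?_⟩
  · have := DFunLike.congr_fun e Q
    rw [Finsupp.single_eq_same, Finsupp.add_apply, div_apply hK, Finsupp.single_eq_of_ne hQ] at this
    omega
  · have := DFunLike.congr_fun e R
    rw [Finsupp.single_eq_of_ne hR, Finsupp.add_apply, div_apply hK, Finsupp.single_eq_of_ne hR'] at this
    omega

theorem infinite_places : Infinite (Place k K) := by
  have key : ∀ c : k, ∃ Q : Place k K, 0 < Q.ord (t - algebraMap k K c) := fun c =>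
    exists_zero hK (mem_range_of_ord hK (P := Pinf) (by rw [ord_sub_C hK hg ht hto]; decide))
  choose Q hQ using key
  refine Infinite.of_injective Q fun c c' e => by_contra fun hne => ?_
  have hQP : Q c ≠ Pinf := fun h => by
    have := hQ c; rw [h, ord_sub_C hK hg ht hto] at this; omega
  have h1 := hQ c
  have h2 := hQ c'
  rw [← e] at h2
  have hne0 : ∀ b : k, t - algebraMap k K b ≠ 0 := fun b h => by
    have := ord_sub_C hK hg ht hto b; rw [h, ord_zero] at this; omega
  rw [ord_pos_iff _ (hne0 _)] at h1 h2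
  have h3 : (Q c).1 (algebraMap k K (c' - c)) < 1 := by
    rw [map_sub, show algebraMap k K c' - algebraMap k K c = (t - algebraMap k K c) - (t - algebraMap k K c') by ring]
    exact (Valuation.map_sub _ _ _).trans_lt (max_lt h1 h2)
  rw [val_algebraMap _ (sub_ne_zero.2 (Ne.symm hne))] at h3
  exact lt_irrefl _ h3

omit hg hto in
theorem aeval_mem_L {n : ℕ} {p : k[X]} (hp : p.natDegree ≤ n) :
    aeval t p ∈ L (Finsupp.single Pinf (n : ℤ)) := by
  rw [aeval_eq_sum_range]
  refine sum_mem fun i hi => Submodule.smul_mem _ _ fun R => ?_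
  rw [map_pow]
  refine (pow_le_pow_left' (ht R) i).trans ?_
  rw [← exp_nsmul, exp_le_exp, nsmul_eq_mul]
  have := Finset.mem_range.1 hi
  rcases eq_or_ne R Pinf with rfl | hR
  · rw [Finsupp.single_eq_same, Finsupp.single_eq_same, mul_one]; omega
  · rw [Finsupp.single_eq_of_ne hR, Finsupp.single_eq_of_ne hR, mul_zero]

theorem ord_inf_aeval {p : k[X]} (hp : p ≠ 0) : Pinf.ord (aeval t p) = -(p.natDegree : ℤ) := by
  have h0 : t ≠ 0 := fun e => by rw [e, ord_zero] at hto; omega
  have hv : Pinf.1 t = exp 1 := by rw [val_eq_exp Pinf h0, hto]; rfl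
  have hpow : ∀ (a : k) (i : ℕ), a ≠ 0 → Pinf.1 (a • t ^ i) = exp (i : ℤ) := fun a i ha => by
    rw [val_smul Pinf ha, map_pow, hv, ← exp_nsmul]; simp
  refine ord_eq_of_val Pinf ?_
  rw [aeval_eq_sum_range, Finset.sum_range_succ, Valuation.map_add_eq_of_lt_right]
  · exact hpow _ _ (leadingCoeff_ne_zero.2 hp)
  · rw [hpow (p.coeff p.natDegree) _ (leadingCoeff_ne_zero.2 hp)]
    rcases Nat.eq_zero_or_pos p.natDegree with hn | hn
    · rw [hn, Finset.range_zero, Finset.sum_empty, map_zero]; exact exp_pos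
    refine (Valuation.map_sum_le _ (g := exp ((p.natDegree : ℤ) - 1)) fun i hi => ?_).trans_lt
      (exp_lt_exp.2 (by omega))
    rcases eq_or_ne (p.coeff i) 0 with h | h
    · simp [h]
    · rw [hpow _ _ h, exp_le_exp]; have := Finset.mem_range.1 hi; omega

theorem exists_poly {n : ℕ} {x : K} (hx : x ∈ L (Finsupp.single Pinf (n : ℤ))) :
    ∃ p : k[X], p.natDegree ≤ n ∧ aeval t p = x := by
  classical
  set S := Submodule.span k (Set.range fun i : Fin (n + 1) => t ^ (i : ℕ))
  have hle : S ≤ L (Finsupp.single Pinf (n : ℤ)) := by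
    rw [Submodule.span_le]
    rintro _ ⟨i, rfl⟩
    have := aeval_mem_L hK ht (n := n) (p := X ^ (i : ℕ)) (by rw [natDegree_X_pow]; omega)
    simpa using this
  have hli : LinearIndependent k fun i : Fin (n + 1) => t ^ (i : ℕ) := by
    rw [Fintype.linearIndependent_iff]
    intro c hc j
    by_contra hne
    refine tr_t hK hg ht hto ⟨∑ i : Fin (n + 1), monomial (i : ℕ) (c i), fun hp => hne ?_, ?_⟩
    · have := congrArg (fun p => coeff p (j : ℕ)) hp
      simpa [finsetSum_coeff, coeff_monomial, Fin.val_inj] using this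
    · simpa [Algebra.smul_def, aeval_monomial] using hc
  have hd := ell_eq_of_deg_ge hK (D := Finsupp.single Pinf (n : ℤ)) (by
    rw [deg_single, deg_eq_one hK, hg]; push_cast; omega)
  rw [deg_single, deg_eq_one hK, hg] at hd
  haveI := L_finite hK (Finsupp.single Pinf (n : ℤ))
  have heq : S = L (Finsupp.single Pinf (n : ℤ)) := Submodule.eq_of_le_of_finrank_le hle (by
    rw [finrank_span_eq_card hli, Fintype.card_fin, ← ell]; omega)
  rw [← heq, Submodule.mem_span_range_iff_exists_fun] at hx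
  obtain ⟨c, rfl⟩ := hx
  refine ⟨∑ i : Fin (n + 1), monomial (i : ℕ) (c i), ?_, ?_⟩
  · exact natDegree_sum_le_of_forall_le _ _ fun i _ => (natDegree_monomial_le _).trans (by omega)
  · simp [Algebra.smul_def, aeval_monomial]

theorem pow_dvd_of_mem {Q : Place k K} (hQ : Q ≠ Pinf) {c : k} (hc : Q.ord (t - algebraMap k K c) = 1)
    {p : k[X]} (m : ℕ) (hp : Q.1 (aeval t p) ≤ exp (-(m : ℤ))) : (X - C c) ^ m ∣ p := by
  rcases eq_or_ne p 0 with rfl | hp0
  · exact dvd_zero _
  obtain ⟨q, hq, hq0⟩ := exists_eq_pow_rootMultiplicity_mul_and_not_dvd p hp0 c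
  set μ := p.rootMultiplicity c
  have hu : aeval t p = (t - algebraMap k K c) ^ μ * aeval t q := by
    conv_lhs => rw [hq]
    simp
  have hu0 : t - algebraMap k K c ≠ 0 := fun e => by rw [e, ord_zero] at hc; omega
  have hq1 : q ≠ 0 := fun e => hq0 (e ▸ dvd_zero _)
  have hqt : aeval t q ≠ 0 := fun e => tr_t hK hg ht hto ⟨q, hq1, e⟩
  have hval : Q.ord (aeval t q) = 0 := by
    have hd : q = (X - C c) * (q /ₘ (X - C c)) + C (q.eval c) := by
      conv_lhs => rw [← modByMonic_add_div q (X - C c), modByMonic_X_sub_C_eq_C_eval]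
      ring
    have hev : q.eval c ≠ 0 := fun e => hq0 (dvd_iff_isRoot.2 e)
    have ht1 : Q.1 t ≤ 1 := by simpa [Finsupp.single_eq_of_ne hQ] using ht Q
    have h1 : Q.1 (aeval t q) = 1 := by
      rw [hd, map_add, map_mul, map_sub, aeval_X, aeval_C, aeval_C,
        Valuation.map_add_eq_of_lt_right, val_algebraMap Q hev]
      rw [val_algebraMap Q hev, map_mul]
      exact lt_of_le_of_lt (mul_le_mul' le_rfl (val_aeval_le Q ht1 _))
        (by rw [mul_one]; exact (ord_pos_iff Q hu0).1 (by omega))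
    rw [ord_eq_of_val Q (n := 0) (by rw [h1, exp_zero]), neg_zero]
  rw [hu, le_exp_iff Q (mul_ne_zero (pow_ne_zero _ hu0) hqt), ord_mul Q (pow_ne_zero _ hu0) hqt, ord_pow,
    hc, hval] at hp
  exact (pow_dvd_pow _ (by omega : m ≤ μ)).trans (Dvd.intro _ hq.symm)

omit ht hto
omit t

variable [CharZero k] {D : Divisor k K} {V : Submodule k K} (hV : V ≤ L D) {d r : ℕ} (hD : D.deg = d)
  (hr : Module.finrank k V = r + 1)
include hV hD hr

/-- The Plücker bound. -/
theorem plucker (Pinf : Place k K) (s : Finset (Place k K)) (hs : Pinf ∉ s) :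
    wsum D V Pinf d + r * (r + 1) / 2 + ∑ Q ∈ s, wsum D V Q d ≤
      (r + 1) * d + s.card * (r * (r + 1) / 2) := by
  classical
  obtain ⟨t, -, ht, hto⟩ := exists_coord hK hg Pinf
  -- move `D` to `d • ∞`
  set E := Finsupp.single Pinf (d : ℤ) with hE
  have hl := ell_eq_of_deg_ge hK (D := D - E) (by rw [deg_sub, hD, hE, deg_single, deg_eq_one hK, hg]; simp)
  rw [deg_sub, hD, hE, deg_single, deg_eq_one hK, hg] at hl
  obtain ⟨f, hf0, hf⟩ := exists_pos_of_ell hK (D := D - E) (by rw [hE]; push_cast at hl; omega)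
  have hDE : D + div k f = E := by
    have h := (eq_of_le_of_deg hK hf (by rw [deg_add, deg_sub, deg_div hK, hD, hE, deg_single, deg_eq_one hK, deg_zero]; simp)).symm
    rw [show D + div k f = (D - E + div k f) + E by abel, h, zero_add]
  let ψ : k[X] →ₗ[k] K := (LinearMap.mulLeft k f).comp (aeval t).toLinearMap
  have hψ : Function.Injective ψ := fun p q h => by
    refine sub_eq_zero.1 (by_contra fun hne => tr_t hK hg ht hto ⟨p - q, hne, ?_⟩)
    rw [map_sub, sub_eq_zero]
    exact mul_left_cancel₀ hf0 h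
  have hmem : ∀ (Q : Place k K) (m : ℤ) (p : k[X]), ψ p ∈ L (D - Finsupp.single Q m) ↔
      aeval t p ∈ L (E - Finsupp.single Q m) := fun Q m p => by
    rw [show ψ p = f * aeval t p from rfl, mul_mem_L_iff hK hf0,
      show D - Finsupp.single Q m + div k f = E - Finsupp.single Q m by rw [← hDE]; abel]
  set Vp := V.comap ψ with hVp
  have hrange : V ≤ LinearMap.range ψ := fun x hx => by
    have h1 : f⁻¹ * x ∈ L E := by
      rw [← hDE, ← mul_mem_L_iff hK hf0, mul_inv_cancel_left₀ hf0]; exact hV hx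
    obtain ⟨p, -, hp⟩ := exists_poly hK hg ht hto h1
    exact ⟨p, by show f * aeval t p = x; rw [hp, mul_inv_cancel_left₀ hf0]⟩
  let Wt : Place k K → ℕ → Submodule k k[X] := fun Q n => (V ⊓ L (D - Finsupp.single Q (n : ℤ))).comap ψ
  let eW : ∀ Q n, Wt Q n ≃ₗ[k] (V ⊓ L (D - Finsupp.single Q (n : ℤ)) : Submodule k K) := fun Q n =>
    (Submodule.equivMapOfInjective ψ hψ _).trans (LinearEquiv.ofEq _ _
      (Submodule.map_comap_eq_of_le (inf_le_left.trans hrange)))
  haveI := finite_of_le hK hV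
  haveI : ∀ Q n, FiniteDimensional k (Wt Q n) := fun Q n => Module.Finite.equiv (eW Q n).symm
  have hfr : ∀ Q (n : ℕ), Module.finrank k (Wt Q n) = av D V Q (n : ℤ) := fun Q n => (eW Q n).finrank_eq
  have adapted : ∀ Q, ∃ (m : Fin (r + 1) → ℕ) (v : Fin (r + 1) → k[X]), Function.Injective m ∧
      (∀ i, m i ≤ d ∧ v i ∈ Wt Q (m i) ∧ v i ∉ Wt Q (m i + 1)) ∧ LinearIndependent k v ∧
      wsum D V Q d = ∑ i, m i := fun Q => by
    obtain ⟨m, v, h1, h2, h3, h4⟩ := exists_adapted d r (Wt Q)
      (fun n => Submodule.comap_mono (inf_le_inf_left _ (L_mono (sub_le_sub_left (Finsupp.single_mono (by push_cast; omega)) D))))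
      (fun n => by
        rw [hfr, hfr]
        have := av_step hK hV Q n
        push_cast; exact this)
      (by
        apply Submodule.finrank_eq_zero.1
        rw [hfr]
        exact av_eq_zero hK hV hD Q (by push_cast; omega))
      (by rw [hfr, Nat.cast_zero, av_zero hK hV, hr])
    refine ⟨m, v, h1, h2, h3, ?_⟩
    rw [← h4, wsum]
    exact Finset.sum_congr rfl fun n _ => by rw [hfr]; push_cast; rfl
  obtain ⟨minf, vinf, hinj, hvinf, hliinf, hSinf⟩ := adapted Pinf
  set T := r * (r + 1) / 2 with hT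
  have hTsum : ∑ i : Fin (r + 1), (i : ℕ) = T := by
    rw [Fin.sum_univ_eq_sum_range (fun i => i), Finset.sum_range_id, Nat.add_sub_cancel, mul_comm]
  have hLinf : ∀ (n : ℕ) (p : k[X]), p ≠ 0 →
      (ψ p ∈ L (D - Finsupp.single Pinf (n : ℤ)) ↔ p.natDegree + n ≤ d) := by
    intro n p hp
    have hpt : aeval t p ≠ 0 := fun e => tr_t hK hg ht hto ⟨p, hp, e⟩
    rw [hmem, hE, ← Finsupp.single_sub]
    constructor
    · intro h
      have := h Pinf
      rw [le_exp_iff _ hpt, ord_inf_aeval hK hg ht hto hp, Finsupp.single_eq_same] at this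
      omega
    · intro h
      have := aeval_mem_L hK ht (n := d - n) (p := p) (by omega)
      rwa [show ((d - n : ℕ) : ℤ) = (d : ℤ) - n by omega] at this
  have hdeg : ∀ i, vinf i ≠ 0 ∧ (vinf i).natDegree = d - minf i := fun i => by
    obtain ⟨hle, hin, hnot⟩ := hvinf i
    have hne : vinf i ≠ 0 := hliinf.ne_zero i
    refine ⟨hne, ?_⟩
    have h1 := (hLinf (minf i) (vinf i) hne).1 hin.2
    have h2 : ¬ (vinf i).natDegree + (minf i + 1) ≤ d := fun h =>
      hnot ⟨hin.1, (hLinf (minf i + 1) (vinf i) hne).2 h⟩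
    omega
  obtain ⟨hW0, hWdeg⟩ := wronskian_degree vinf (fun i => d - minf i)
    (fun a b h => hinj (by have := (hvinf a).1; have := (hvinf b).1; simp only at h; omega)) hdeg
  set W := (wronskM vinf).det
  have hQdvd : ∀ Q ∈ s, ∃ c : k, Q.ord (t - algebraMap k K c) = 1 ∧
      (X - C c) ^ (wsum D V Q d - T) ∣ W := by
    intro Q hQ
    have hQP : Q ≠ Pinf := fun e => hs (e ▸ hQ)
    obtain ⟨c, hc, -⟩ := exists_zero_const hK hg ht hto hQP
    obtain ⟨m, v, -, hv, hli, hS⟩ := adapted Q
    refine ⟨c, hc, ?_⟩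
    have hdiv : ∀ i, (X - C c) ^ m i ∣ v i := fun i => by
      have h := (hmem Q (m i : ℤ) (v i)).1 (hv i).2.1.2 Q
      refine pow_dvd_of_mem hK hg ht hto hQP hc (m i) (h.trans ?_)
      rw [exp_le_exp, Finsupp.sub_apply, hE, Finsupp.single_eq_of_ne hQP, Finsupp.single_eq_same, zero_sub]
    have h1 := wronskian_dvd v c m hdiv
    rw [← hS, hTsum] at h1
    -- change of basis
    have hspan : ∀ i, vinf i ∈ Submodule.span k (Set.range v) := by
      have hW0Q : ∀ j, v j ∈ Wt Q 0 := fun j =>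
        Submodule.comap_mono (inf_le_inf_left _ (L_mono (sub_le_sub_left (Finsupp.single_mono (by push_cast; omega)) D))) (hv j).2.1
      have heq : Submodule.span k (Set.range v) = Wt Q 0 := by
        refine Submodule.eq_of_le_of_finrank_le (Submodule.span_le.2 (by rintro _ ⟨j, rfl⟩; exact hW0Q j)) ?_
        rw [finrank_span_eq_card hli, Fintype.card_fin, hfr, Nat.cast_zero, av_zero hK hV, hr]
      intro i
      rw [heq]
      refine ⟨(hvinf i).2.1.1, ?_⟩
      have := hV (hvinf i).2.1.1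
      simpa using this
    choose A hA using fun i => (Submodule.mem_span_range_iff_exists_fun k).1 (hspan i)
    rw [show W = C (Matrix.of A).det * (wronskM v).det from
      det_wronskM_comb (Matrix.of A) vinf v fun i => (hA i).symm]
    exact dvd_mul_of_dvd_right h1 _
  choose! c hc hcd using hQdvd
  have hinjc : Set.InjOn c (s : Set (Place k K)) := fun Q hQ R hR e => by
    by_contra hne
    obtain ⟨c', hc', hz⟩ := exists_zero_const hK hg ht hto (Q := Q) (fun e => hs (e ▸ hQ))
    have hcc : c' = c Q := by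
      by_contra hne'
      have hu : ∀ b, t - algebraMap k K b ≠ 0 := fun b h => by
        have := ord_sub_C hK hg ht hto b; rw [h, ord_zero] at this; omega
      have h1 := (ord_pos_iff Q (hu c')).1 (by omega)
      have h2 := (ord_pos_iff Q (hu (c Q))).1 (by rw [hc Q hQ]; omega)
      have h3 : Q.1 (algebraMap k K (c Q - c')) < 1 := by
        rw [map_sub, show algebraMap k K (c Q) - algebraMap k K c' =
          (t - algebraMap k K c') - (t - algebraMap k K (c Q)) by ring]
        exact (Valuation.map_sub _ _ _).trans_lt (max_lt h1 h2)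
      rw [val_algebraMap Q (sub_ne_zero.2 (Ne.symm hne'))] at h3
      exact lt_irrefl _ h3
    have := hz R (Ne.symm hne) (fun e => hs (e ▸ hR))
    rw [hcc, e, hc R hR] at this
    exact one_ne_zero this
  have hprod : ∏ Q ∈ s, (X - C (c Q)) ^ (wsum D V Q d - T) ∣ W := by
    refine Finset.prod_dvd_of_coprime (fun Q hQ R hR hne => ?_) hcd
    exact ((pairwise_coprime_X_sub_C Function.injective_id)
      (fun e => hne (hinjc hQ hR e))).pow
  have h2 := natDegree_le_of_dvd hprod hW0
  rw [natDegree_prod _ _ fun Q _ => pow_ne_zero _ (X_sub_C_ne_zero _)] at h2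
  simp only [natDegree_pow, natDegree_X_sub_C, mul_one] at h2
  have h3 : ∑ Q ∈ s, wsum D V Q d ≤ ∑ Q ∈ s, (wsum D V Q d - T) + s.card * T := by
    rw [← smul_eq_mul, ← Finset.sum_const, ← Finset.sum_add_distrib]
    exact Finset.sum_le_sum fun Q _ => by omega
  have h4 : ∑ i, (d - minf i) + ∑ i, minf i = (r + 1) * d := by
    rw [← Finset.sum_add_distrib, Finset.sum_eq_card_nsmul (b := d) fun i _ => Nat.sub_add_cancel (hvinf i).1,
      Finset.card_univ, Fintype.card_fin, smul_eq_mul]
  rw [hTsum] at hWdeg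
  omega

end Groth.Agent.FunFld
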